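import Cfsg.Agent.H872.PV.VZ
import Cfsg.Agent.H686.VO.PSL
import Cfsg.Agent.H115.NB.Basic

/-!
# The row `PSL_n(q)` of S4555 and S4559 (helper872; task 3890)

`vOrdP` : for every prime `p` different from the characteristic, `PSL_n(q)` has an element of order `p` that is, with
all its images under automorphisms, a zero of one irreducible character.
-/

set_option autoImplicit false
set_option linter.unusedSectionVars false

namespace Cfsg.Agent.H872.PV

open Cfsg Matrix Cfsg.Agent.H665.NoPQ Cfsg.Agent.H620 Cfsg.Agent.H620.PNorm Cfsg.Agent.H686.VO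

universe u

theorem vOrdP_of_kill {K : Type*} [Group K] [Finite K] {p : ℕ} [hp : Fact p.Prime] (h : Kill K p)
    (hd : p ∣ Nat.card K) : VOrdP p K := by
  obtain ⟨x, hx⟩ := exists_prime_orderOf_dvd_card' (G := K) p hd
  exact ⟨x, hx, h.vz (by rw [hx])⟩

section two

variable {F : Type*} [Field F] [Fintype F]

/-- the degrees of `PSL₂(q)`, `q = 4` or `q ≥ 7` -/
theorem psl_degrees (h4 : 4 ≤ Fintype.card F) (h5 : Fintype.card F ≠ 5) :
    Fintype.card F + 1 ∈ charDegrees (ProjectiveSpecialLinearGroup (Fin 2) F) ∧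
    Fintype.card F - 1 ∈ charDegrees (ProjectiveSpecialLinearGroup (Fin 2) F) := by
  classical
  by_cases h2 : ringChar F = 2
  · have hc : CharP F 2 := h2 ▸ ringChar.charP F
    obtain ⟨-, h⟩ := Cfsg.Agent.S2300.result (F := F)
    obtain ⟨-, -, h3, h4⟩ := h (by omega)
    constructor
    · apply H464.PslDeg.mem_psl_two h2
      have h5 : Nat.card {χ : Cfsg.IrrCharacter (Matrix.SpecialLinearGroup (Fin 2) F) //
          (χ : Matrix.SpecialLinearGroup (Fin 2) F → ℂ) 1 = (Fintype.card F : ℂ) + 1} ≠ 0 := by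
        rw [h3]; omega
      obtain ⟨⟨χ, hχ⟩⟩ := (Nat.card_ne_zero.1 h5).1
      exact H681.DegBasic.mem_charDegrees.2 ⟨χ, χ.2, by rw [hχ]; push_cast; rfl⟩
    · apply H464.PslDeg.mem_psl_two h2
      have h5 : Nat.card {χ : Cfsg.IrrCharacter (Matrix.SpecialLinearGroup (Fin 2) F) //
          (χ : Matrix.SpecialLinearGroup (Fin 2) F → ℂ) 1 = (Fintype.card F : ℂ) - 1} ≠ 0 := by
        rw [h4]; omega
      obtain ⟨⟨χ, hχ⟩⟩ := (Nat.card_ne_zero.1 h5).1
      exact H681.DegBasic.mem_charDegrees.2 ⟨χ, χ.2, by rw [hχ, Nat.cast_sub (by omega), Nat.cast_one]⟩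
  · have h6 : Fintype.card F ≠ 6 := by
      intro h6
      obtain ⟨n, hp, hn⟩ := FiniteField.card F (ringChar F)
      rw [h6] at hn
      have h7 : 2 ∣ ringChar F ^ (n : ℕ) := by rw [← hn]; norm_num
      have h8 := Nat.prime_two.dvd_of_dvd_pow h7
      exact h2 ((Nat.prime_dvd_prime_iff_eq Nat.prime_two hp).1 h8).symm
    have h7 : Fintype.card F ≠ 4 := by
      intro h6
      obtain ⟨n, hp, hn⟩ := FiniteField.card F (ringChar F)
      rw [h6] at hn
      have h7 : 2 ∣ ringChar F ^ (n : ℕ) := by rw [← hn]; norm_num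
      have h8 := Nat.prime_two.dvd_of_dvd_pow h7
      exact h2 ((Nat.prime_dvd_prime_iff_eq Nat.prime_two hp).1 h8).symm
    exact H464.PslDeg.psl_degrees (by omega)

/-- **`PSL₂(q)` has a character of `p`-defect zero for every prime `p` different from the characteristic.** -/
theorem hasDZ_two {r p : ℕ} [hr : Fact r.Prime] [CharP F r] [hp : Fact p.Prime] (h4 : 4 ≤ Fintype.card F)
    (hpr : p ≠ r) : HasDZ p (ProjectiveSpecialLinearGroup (Fin 2) F) := by
  have hfin : Finite (ProjectiveSpecialLinearGroup (Fin 2) F) := inferInstance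
  by_cases hp2 : p = 2
  · subst hp2
    have hodd : Odd (Fintype.card F) := by
      obtain ⟨n, -, hn⟩ := FiniteField.card F r
      rw [hn]
      exact (hr.out.odd_of_ne_two fun h => hpr h.symm).pow
    refine H115.NBk.hasDZ_psl_two hodd ?_
    obtain ⟨k, hk⟩ := hodd
    omega
  have hp3 : 3 ≤ p := by
    have := hp.out.two_le
    omega
  have hnot : ¬ (p ∣ Fintype.card F + 1 ∧ p ∣ Fintype.card F - 1) := by
    rintro ⟨h5, h6⟩
    have h8 := Nat.dvd_sub h5 h6
    rw [show Fintype.card F + 1 - (Fintype.card F - 1) = 2 by omega] at h8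
    have := Nat.le_of_dvd (by norm_num) h8
    omega
  have key : p ^ (Nat.card (ProjectiveSpecialLinearGroup (Fin 2) F)).factorization p ∣
      (Fintype.card F + 1) * (Fintype.card F - 1) := by
    have h1 := PSL.pow_dvd (F := F) (r := r) (m := 0) hp.out hpr
      (Nat.ordProj_dvd (Nat.card (ProjectiveSpecialLinearGroup (Fin 2) F)) p)
    have := Nat.sq_sub_sq (Fintype.card F) 1
    rw [one_pow] at this
    rw [← this]
    simpa using h1
  by_cases h5 : Fintype.card F = 5
  · obtain ⟨hd3, hd4, hd5⟩ := H464.PslDeg.psl_five h5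
    obtain ⟨χ, hχ, hχ1⟩ := Cfsg.Agent.H681.DegBasic.mem_charDegrees.1 hd3
    refine hasDZ_of_deg hχ hχ1 ?_
    rw [h5, show (5 + 1) * (5 - 1) = 3 * 2 ^ 3 by norm_num] at key
    exact (Nat.Coprime.pow _ _ ((Nat.coprime_primes hp.out Nat.prime_two).2 hp2)).dvd_of_dvd_mul_right key
  obtain ⟨hd1, hd2⟩ := psl_degrees h4 h5
  by_cases h6 : p ∣ Fintype.card F - 1
  · have h7 : ¬ p ∣ Fintype.card F + 1 := fun h => hnot ⟨h, h6⟩
    obtain ⟨χ, hχ, hχ1⟩ := Cfsg.Agent.H681.DegBasic.mem_charDegrees.1 hd2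
    exact hasDZ_of_deg hχ hχ1
      ((Nat.Coprime.pow_left _ ((Nat.Prime.coprime_iff_not_dvd hp.out).2 h7)).dvd_of_dvd_mul_left key)
  · obtain ⟨χ, hχ, hχ1⟩ := Cfsg.Agent.H681.DegBasic.mem_charDegrees.1 hd1
    exact hasDZ_of_deg hχ hχ1
      ((Nat.Coprime.pow_left _ ((Nat.Prime.coprime_iff_not_dvd hp.out).2 h6)).dvd_of_dvd_mul_right key)

end two

/-- **The row `PSL_n(q)`**: an element of order `p` that is a zero with all its images under automorphisms. -/
theorem vOrdP_psl {p : ℕ} [hp : Fact p.Prime] (K : Type u) [Group K] [Finite K] (r : ℕ) (hr : r.Prime)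
    (hpr : p ≠ r) (h : IsPSLChar r K) (hd : p ∣ Nat.card K) : VOrdP p K := by
  obtain ⟨F, _, _, _, n, hn, h4, ⟨e⟩⟩ := h
  have : Fact r.Prime := ⟨hr⟩
  refine VOrdP.mulEquiv ?_ e.symm
  rw [Nat.card_congr e.toEquiv] at hd
  have hfin : Finite (ProjectiveSpecialLinearGroup (Fin n) F) := inferInstance
  rcases Nat.lt_or_ge n 3 with h3 | h3
  · have : n = 2 := by omega
    subst this
    exact vOrdP_of_kill (kill_of_hasDZ (hasDZ_two (r := r) (h4 rfl) hpr)) hd
  · by_cases h1 : p ∣ Fintype.card F - 1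
    · exact vOrdP_of_dvd (r := r) h3 hp.out h1
    · exact vOrdP_of_kill (kill_of_hasDZ (PSL.hasDZ_of_not_dvd (r := r) hpr h3 h1)) hd

/-- The form of the field `psl` of `H620.PNRows.LieRows` for S4559. -/
theorem row_pOrd {p : ℕ} (hp : p.Prime) : ∀ (K : Type u) [Group K] [Finite K] [IsSimpleGroup K] (r : ℕ), r.Prime →
    p ≠ r → IsPSLChar r K → p ∣ Nat.card K → VOrdP p K := by
  intro K _ _ _ r hr hpr h hd
  have : Fact p.Prime := ⟨hp⟩
  exact vOrdP_psl K r hr hpr h hd

/-- The form of the field `psl` of `H620.PNRows.LieRows` for S4555. -/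
theorem row_pPow {p : ℕ} (hp : p.Prime) : ∀ (K : Type u) [Group K] [Finite K] [IsSimpleGroup K] (r : ℕ), r.Prime →
    p ≠ r → IsPSLChar r K → p ∣ Nat.card K → VPow p K := by
  intro K _ _ _ r hr hpr h hd
  exact (row_pOrd hp K r hr hpr h hd).vPow

end Cfsg.Agent.H872.PV
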