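import Cfsg.Agent.H649.VanC.Descent
import Cfsg.Agent.H199.PslAut
import Cfsg.Agent.H113.PSL.Main
import Cfsg.Agent.H686.VO.PSLEmb

/-!
# Zeros of the cuspidal characters of `GL_n(q)` on elements of prime order (helper872; task 3890)

* `Good p s`, `s ∈ SL_n(q)` : `s` has order `p`, has the eigenvalue `1`, and its centralizer contains matrices of
  every determinant;
* `psi_zero` : the cuspidal characters vanish at good elements (`p` not the characteristic);
* `vz_good` : the image of a good element in `PSL_n(q)` is a zero of one irreducible character, with all its images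
  under automorphisms.
-/

set_option autoImplicit false
set_option linter.unusedSectionVars false

namespace Cfsg.Agent.H872.PV

open Cfsg Matrix Polynomial Cfsg.Agent.H139.Cusp
open Cfsg.Agent.ClassicalGeometry.AutPSL.Root Cfsg.Agent.ClassicalGeometry.AutPSL.Auto

section matrices

variable {F : Type*} [Field F] {n : ℕ}

/-- The elements of order `p` with the eigenvalue `1` whose centralizer has all determinants. -/
structure Good (p : ℕ) (s : Matrix.SpecialLinearGroup (Fin n) F) : Prop where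
  pow : s ^ p = 1
  ne : s ≠ 1
  det : ((s : Matrix (Fin n) (Fin n) F) - 1).det = 0
  cen : ∀ t : F, t ≠ 0 → ∃ C : Matrix (Fin n) (Fin n) F, C.det = t ∧
    C * (s : Matrix (Fin n) (Fin n) F) = (s : Matrix (Fin n) (Fin n) F) * C

theorem good_cj {p : ℕ} {s : Matrix.SpecialLinearGroup (Fin n) F} (h : Good p s) (g : GL (Fin n) F) :
    Good p (cj g s) := by
  have e1 : (g : Matrix (Fin n) (Fin n) F) * ((g⁻¹ : GL (Fin n) F) : Matrix (Fin n) (Fin n) F) = 1 := by
    rw [← Units.val_mul, mul_inv_cancel, Units.val_one]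
  have e2 : ((g⁻¹ : GL (Fin n) F) : Matrix (Fin n) (Fin n) F) * (g : Matrix (Fin n) (Fin n) F) = 1 := by
    rw [← Units.val_mul, inv_mul_cancel, Units.val_one]
  have e3 : (g : Matrix (Fin n) (Fin n) F).det * ((g⁻¹ : GL (Fin n) F) : Matrix (Fin n) (Fin n) F).det = 1 := by
    rw [← det_mul, e1, det_one]
  refine ⟨?_, ?_, ?_, ?_⟩
  · rw [← map_pow, h.pow, map_one]
  · intro h1
    exact h.ne ((cj g).injective (by rw [h1, map_one]))
  · have h1 : ((cj g s : Matrix.SpecialLinearGroup (Fin n) F) : Matrix (Fin n) (Fin n) F) - 1 =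
        (g : Matrix (Fin n) (Fin n) F) * ((s : Matrix (Fin n) (Fin n) F) - 1) *
          ((g⁻¹ : GL (Fin n) F) : Matrix (Fin n) (Fin n) F) := by
      rw [coe_cj, mul_sub, sub_mul, mul_one, e1]
    rw [h1, det_mul, det_mul, h.det, mul_zero, zero_mul]
  · intro t ht
    obtain ⟨C, hC, hC'⟩ := h.cen t ht
    refine ⟨(g : Matrix (Fin n) (Fin n) F) * C * ((g⁻¹ : GL (Fin n) F) : Matrix (Fin n) (Fin n) F), ?_, ?_⟩
    · rw [det_mul, det_mul, mul_right_comm, e3, one_mul, hC]
    · rw [coe_cj]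
      calc (g : Matrix (Fin n) (Fin n) F) * C * ((g⁻¹ : GL (Fin n) F) : Matrix (Fin n) (Fin n) F) *
            ((g : Matrix (Fin n) (Fin n) F) * s * ((g⁻¹ : GL (Fin n) F) : Matrix (Fin n) (Fin n) F))
          = (g : Matrix (Fin n) (Fin n) F) * C * (((g⁻¹ : GL (Fin n) F) : Matrix (Fin n) (Fin n) F) *
            (g : Matrix (Fin n) (Fin n) F)) * s * ((g⁻¹ : GL (Fin n) F) : Matrix (Fin n) (Fin n) F) := by
            simp only [mul_assoc]
        _ = (g : Matrix (Fin n) (Fin n) F) * (C * s) * ((g⁻¹ : GL (Fin n) F) : Matrix (Fin n) (Fin n) F) := by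
            rw [e2, mul_one, mul_assoc (g : Matrix (Fin n) (Fin n) F)]
        _ = (g : Matrix (Fin n) (Fin n) F) * (s * (((g⁻¹ : GL (Fin n) F) : Matrix (Fin n) (Fin n) F) *
            (g : Matrix (Fin n) (Fin n) F)) * C) * ((g⁻¹ : GL (Fin n) F) : Matrix (Fin n) (Fin n) F) := by
            rw [hC', e2, mul_one]
        _ = _ := by simp only [mul_assoc]

theorem good_fld {p : ℕ} {s : Matrix.SpecialLinearGroup (Fin n) F} (h : Good p s) (σ : F ≃+* F) :
    Good p (fld σ s) := by
  have e0 : ((fld σ s : Matrix.SpecialLinearGroup (Fin n) F) : Matrix (Fin n) (Fin n) F) =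
      (σ : F →+* F).mapMatrix (s : Matrix (Fin n) (Fin n) F) := rfl
  refine ⟨?_, ?_, ?_, ?_⟩
  · rw [← map_pow, h.pow, map_one]
  · intro h1
    exact h.ne ((fld σ).injective (by rw [h1, map_one]))
  · rw [e0, ← map_one ((σ : F →+* F).mapMatrix : Matrix (Fin n) (Fin n) F →+* _), ← map_sub, ← RingHom.map_det,
      h.det, map_zero]
  · intro t ht
    obtain ⟨C, hC, hC'⟩ := h.cen (σ.symm t) (by simpa using ht)
    refine ⟨(σ : F →+* F).mapMatrix C, ?_, ?_⟩
    · rw [← RingHom.map_det, hC]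
      exact σ.apply_symm_apply t
    · rw [e0, ← map_mul, hC', map_mul]

theorem good_itr {p : ℕ} {s : Matrix.SpecialLinearGroup (Fin n) F} (h : Good p s) :
    Good p (itr s) := by
  have e1 : (s : Matrix (Fin n) (Fin n) F) * ((s⁻¹ : Matrix.SpecialLinearGroup (Fin n) F) : Matrix (Fin n) (Fin n) F)
      = 1 := by
    rw [← Matrix.SpecialLinearGroup.coe_mul, mul_inv_cancel, Matrix.SpecialLinearGroup.coe_one]
  have e2 : ((s⁻¹ : Matrix.SpecialLinearGroup (Fin n) F) : Matrix (Fin n) (Fin n) F) * (s : Matrix (Fin n) (Fin n) F)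
      = 1 := by
    rw [← Matrix.SpecialLinearGroup.coe_mul, inv_mul_cancel, Matrix.SpecialLinearGroup.coe_one]
  refine ⟨?_, ?_, ?_, ?_⟩
  · rw [← map_pow, h.pow, map_one]
  · intro h1
    exact h.ne ((itr (ι := Fin n) (F := F)).injective (by rw [h1, map_one]))
  · have h1 : ((itr s : Matrix.SpecialLinearGroup (Fin n) F) : Matrix (Fin n) (Fin n) F) - 1 =
        (-(((s⁻¹ : Matrix.SpecialLinearGroup (Fin n) F) : Matrix (Fin n) (Fin n) F) *
          ((s : Matrix (Fin n) (Fin n) F) - 1)))ᵀ := by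
      rw [coe_itr, mul_sub, e2, mul_one, neg_sub, transpose_sub, transpose_one]
    rw [h1, det_transpose, det_neg, det_mul, h.det, mul_zero, mul_zero]
  · intro t ht
    obtain ⟨C, hC, hC'⟩ := h.cen t ht
    refine ⟨Cᵀ, by rw [det_transpose, hC], ?_⟩
    rw [coe_itr, ← transpose_mul, ← transpose_mul]
    congr 1
    calc ((s⁻¹ : Matrix.SpecialLinearGroup (Fin n) F) : Matrix (Fin n) (Fin n) F) * C
        = ((s⁻¹ : Matrix.SpecialLinearGroup (Fin n) F) : Matrix (Fin n) (Fin n) F) * (C * s) *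
          ((s⁻¹ : Matrix.SpecialLinearGroup (Fin n) F) : Matrix (Fin n) (Fin n) F) := by
          rw [mul_assoc, mul_assoc, e1, mul_one]
      _ = ((s⁻¹ : Matrix.SpecialLinearGroup (Fin n) F) : Matrix (Fin n) (Fin n) F) * s * C *
          ((s⁻¹ : Matrix.SpecialLinearGroup (Fin n) F) : Matrix (Fin n) (Fin n) F) := by
          rw [hC']; simp only [mul_assoc]
      _ = _ := by rw [e2, one_mul]

/-- An element of order `p` different from the characteristic is not unipotent. -/
theorem not_unip {r p : ℕ} [hr : Fact r.Prime] [CharP F r] (hp : p.Prime) (hpr : p ≠ r)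
    {A : Matrix (Fin n) (Fin n) F} (h1 : A ^ p = 1) (hne : A ≠ 1) : (A - 1) ^ n ≠ 0 := by
  intro h2
  apply hne
  rcases Nat.eq_zero_or_pos n with rfl | hn
  · ext i j
    exact i.elim0
  have : Nonempty (Fin n) := ⟨⟨0, hn⟩⟩
  have hc : CharP (Matrix (Fin n) (Fin n) F) r := inferInstance
  have h3 : A ^ r ^ n = 1 := by
    have h4 : (A - 1) ^ r ^ n = 0 := by
      have h5 : n ≤ r ^ n := (Nat.lt_pow_self hr.out.one_lt).le
      rw [← Nat.add_sub_cancel' h5, pow_add, h2, zero_mul]
    have h5 := add_pow_char_pow_of_commute r n (x := A - 1) (y := 1) (Commute.one_right _)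
    rw [sub_add_cancel, h4, one_pow, zero_add] at h5
    exact h5
  have hcop : Nat.Coprime p (r ^ n) := Nat.Coprime.pow_right n ((Nat.coprime_primes hp hr.out).2 hpr)
  have h6 : orderOf A ∣ Nat.gcd p (r ^ n) :=
    Nat.dvd_gcd (orderOf_dvd_of_pow_eq_one h1) (orderOf_dvd_of_pow_eq_one h3)
  rw [hcop.gcd_eq_one, Nat.dvd_one, orderOf_eq_one_iff] at h6
  exact h6

end matrices

section cusp

variable {F : Type*} [Field F] [Fintype F] {n : ℕ} (L : Type*) [Field L] [Algebra F L] (θ : L →*₀ ℂ)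

/-- **The cuspidal characters vanish at the good elements.** -/
theorem psi_zero {r p : ℕ} [hr : Fact r.Prime] [CharP F r] (hp : p.Prime) (hpr : p ≠ r) (hn : 1 ≤ n)
    {s : Matrix.SpecialLinearGroup (Fin n) F} (h : Good p s) :
    psi L θ (Matrix.SpecialLinearGroup.toGL s) = 0 := by
  have : Nonempty (Fin n) := ⟨⟨0, hn⟩⟩
  have hnt : Nontrivial (Fin n → F) := inferInstance
  rcases cusp_eq_zero_or L θ (Matrix.toLin' (s : Matrix (Fin n) (Fin n) F)) with ⟨f, m, hf, hirr, hm, hfm⟩ | h0
  swap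
  · exact h0
  exfalso
  rw [Matrix.charpoly_toLin'] at hfm
  have h1 : (s : Matrix (Fin n) (Fin n) F).charpoly.eval 1 = 0 := by
    rw [Matrix.eval_charpoly, map_one, ← neg_sub, det_neg, h.det, mul_zero]
  have h2 : f.eval 1 = 0 := by
    rw [hfm, eval_pow] at h1
    exact pow_eq_zero_iff (by omega) |>.1 h1
  have h3 : f = X - C 1 := by
    have h4 : (X - C (1 : F)) ∣ f := dvd_iff_isRoot.2 h2
    have h5 := (irreducible_X_sub_C (1 : F)).associated_of_dvd hirr h4
    exact (eq_of_monic_of_associated (monic_X_sub_C _) hf h5).symm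
  have h4 : m = n := by
    have h5 := congrArg natDegree hfm
    rw [Matrix.charpoly_natDegree_eq_dim, h3, natDegree_pow, natDegree_X_sub_C, mul_one, Fintype.card_fin] at h5
    exact h5.symm
  have h5 := Matrix.aeval_self_charpoly (s : Matrix (Fin n) (Fin n) F)
  rw [hfm, h3, h4, map_pow, map_sub, aeval_X, aeval_C, map_one] at h5
  refine not_unip (r := r) hp hpr (A := (s : Matrix (Fin n) (Fin n) F)) ?_ ?_ h5
  · rw [← Matrix.SpecialLinearGroup.coe_pow, h.pow, Matrix.SpecialLinearGroup.coe_one]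
  · intro h6
    exact h.ne (Subtype.ext h6)

end cusp

end Cfsg.Agent.H872.PV
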