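import Cfsg.Agent.H872.PV.Good
import Cfsg.Agent.H620.PNorm

/-!
# Zeros of `PSL_n(q)` of order `p`, `p ∣ q - 1`, `n ≥ 3` (helper872; task 3890)
-/

set_option autoImplicit false
set_option linter.unusedSectionVars false

namespace Cfsg.Agent.H872.PV

open Cfsg Matrix Polynomial Cfsg.Agent.H139.Cusp Cfsg.Agent.H199.PslAut
open Cfsg.Agent.ClassicalGeometry.AutPSL.Root Cfsg.Agent.ClassicalGeometry.AutPSL.Auto

section

variable {F : Type} [Field F] [Fintype F] {n : ℕ}

/-- the automorphisms of `PSL_n(q)` permute the images of the good elements -/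
theorem aut_good (hn : 2 ≤ n) {p : ℕ} {s : Matrix.SpecialLinearGroup (Fin n) F} (h : Good p s)
    (α : MulAut (ProjectiveSpecialLinearGroup (Fin n) F)) :
    ∃ t : Matrix.SpecialLinearGroup (Fin n) F, Good p t ∧ α (pr s) = pr t := by
  rcases exists_form hn α with ⟨g, σ, rfl⟩ | ⟨-, g, σ, rfl⟩
  · exact ⟨_, good_cj (good_fld h σ) g, rfl⟩
  · exact ⟨_, good_cj (good_fld (good_itr h) σ) g, rfl⟩

theorem map_center_eq {G H : Type*} [Group G] [Group H] (e : G ≃* H) :
    (Subgroup.center G).map (e : G →* H) = Subgroup.center H := by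
  ext x
  constructor
  · rintro ⟨z, hz, rfl⟩
    rw [Subgroup.mem_center_iff]
    intro y
    obtain ⟨g, rfl⟩ := e.surjective y
    have := (Subgroup.mem_center_iff.1 hz) g
    calc e g * e z = e (g * z) := (map_mul e g z).symm
      _ = e (z * g) := by rw [this]
      _ = e z * e g := map_mul e z g
  · intro hx
    obtain ⟨z, rfl⟩ := e.surjective x
    refine ⟨z, Subgroup.mem_center_iff.2 fun g => e.injective ?_, rfl⟩
    rw [map_mul, map_mul]
    exact (Subgroup.mem_center_iff.1 hx) (e g)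

/-- `SL_n(q)` in `GL_n(q)` -/
abbrev slR (n : ℕ) (F : Type) [Field F] : Subgroup (GL (Fin n) F) :=
  (Matrix.SpecialLinearGroup.toGL : Matrix.SpecialLinearGroup (Fin n) F →* GL (Fin n) F).range

/-- the isomorphism -/
noncomputable def eR (n : ℕ) (F : Type) [Field F] : Matrix.SpecialLinearGroup (Fin n) F ≃* slR n F :=
  MonoidHom.ofInjective Matrix.SpecialLinearGroup.toGL_injective

theorem coe_eR (s : Matrix.SpecialLinearGroup (Fin n) F) :
    ((eR n F s : slR n F) : GL (Fin n) F) = Matrix.SpecialLinearGroup.toGL s := rfl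

/-- the isomorphism of the central quotients -/
noncomputable def eQ (n : ℕ) (F : Type) [Field F] :
    ProjectiveSpecialLinearGroup (Fin n) F ≃* slR n F ⧸ Subgroup.center (slR n F) :=
  QuotientGroup.congr _ _ (eR n F) (map_center_eq (eR n F))

theorem eQ_pr (s : Matrix.SpecialLinearGroup (Fin n) F) :
    eQ n F (pr s) = ((eR n F s : slR n F) : slR n F ⧸ Subgroup.center (slR n F)) := rfl

/-- **The good elements are zeros.** -/
theorem vz_good (hn : 2 ≤ n) {r p : ℕ} [hr : Fact r.Prime] [CharP F r] (hp : p.Prime) (hpr : p ≠ r)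
    {s : Matrix.SpecialLinearGroup (Fin n) F} (h : Good p s) :
    H713.VZ (ProjectiveSpecialLinearGroup (Fin n) F) (pr s) := by
  classical
  have hnz : NeZero n := ⟨by omega⟩
  let L := FiniteField.Extension F r n
  have hL : Module.finrank F L = n := FiniteField.finrank_extension F r n
  obtain ⟨θ, h1, h2⟩ := Cfsg.Agent.H113.PSL.Theta.exists_theta (F := F) (L := L) (by omega) hL
  have hreg : Regular F n θ := by
    intro i hi hin
    obtain ⟨x, hx⟩ := h2 i hi hin
    exact ⟨x, fun h => hx h.symm⟩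
  have hirr := psi_isIrr θ hL hreg
  have hsc : ∀ c : Fˣ, psi L θ (GeneralLinearGroup.scalar (Fin n) c) = psi L θ (1 : GL (Fin n) F) := by
    intro c
    have h3 := psi_scalar θ hL c 1
    rw [mul_one, h1 (c : F) c.ne_zero, one_mul] at h3
    exact h3
  have hz : ∀ z : slR n F, z ∈ Subgroup.center (slR n F) → psi L θ (z : GL (Fin n) F) = psi L θ (1 : GL (Fin n) F) := by
    intro z hz
    obtain ⟨t, rfl⟩ := (eR n F).surjective z
    have ht : t ∈ Subgroup.center (Matrix.SpecialLinearGroup (Fin n) F) := by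
      rw [← map_center_eq (eR n F)] at hz
      obtain ⟨t', ht', e⟩ := hz
      have : t' = t := (eR n F).injective e
      rwa [← this]
    rw [Matrix.SpecialLinearGroup.mem_center_iff] at ht
    obtain ⟨c, hc1, hc⟩ := ht
    have hc0 : c ≠ 0 := by
      rintro rfl
      rw [Fintype.card_fin, zero_pow (by omega)] at hc1
      exact zero_ne_one hc1
    rw [← hsc (Units.mk0 c hc0)]
    congr 1
    apply Units.ext
    rw [coe_eR]
    exact hc.symm
  have key := H649.VanC.vz_down (slR n F) hirr hz {x | ∃ s, Good p s ∧ eR n F s = x} ?_ ?_ ?_ (eR n F s)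
    ⟨s, h, rfl⟩
  · have h3 := key.mulEquiv (eQ n F).symm
    rw [← eQ_pr, MulEquiv.symm_apply_apply] at h3
    exact h3
  · rintro _ ⟨s, h, rfl⟩ g
    obtain ⟨C, hC, hC'⟩ := h.cen ((g⁻¹ : GL (Fin n) F) : Matrix (Fin n) (Fin n) F).det (by
      have := (Matrix.GeneralLinearGroup.det g⁻¹).ne_zero
      exact this)
    have hCu : IsUnit C.det := by
      rw [hC]
      exact (Matrix.GeneralLinearGroup.det g⁻¹).isUnit
    let c : GL (Fin n) F := Matrix.GeneralLinearGroup.mk'' C hCu
    have hc : (c : Matrix (Fin n) (Fin n) F) = C := rfl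
    have hdet : ((g * c : GL (Fin n) F) : Matrix (Fin n) (Fin n) F).det = 1 := by
      rw [Units.val_mul, det_mul, hc, hC, ← det_mul, ← Units.val_mul, mul_inv_cancel, Units.val_one, det_one]
    refine ⟨eR n F ⟨((g * c : GL (Fin n) F) : Matrix (Fin n) (Fin n) F), hdet⟩, ?_⟩
    have e1 : ((eR n F ⟨((g * c : GL (Fin n) F) : Matrix (Fin n) (Fin n) F), hdet⟩ : slR n F) : GL (Fin n) F) =
        g * c := Units.ext rfl
    have e2 : c * ((eR n F s : slR n F) : GL (Fin n) F) = ((eR n F s : slR n F) : GL (Fin n) F) * c := by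
      apply Units.ext
      exact hC'
    rw [e1]
    calc g * ((eR n F s : slR n F) : GL (Fin n) F) * g⁻¹
        = g * (((eR n F s : slR n F) : GL (Fin n) F) * c) * c⁻¹ * g⁻¹ := by group
      _ = _ := by rw [← e2]; group
  · rintro _ ⟨s, h, rfl⟩
    exact psi_zero (r := r) L θ hp hpr (by omega) h
  · rintro α _ ⟨s, h, rfl⟩
    obtain ⟨t, ht, e⟩ := aut_good hn h ((eQ n F).trans (α.trans (eQ n F).symm))
    refine ⟨eR n F t, ⟨t, ht, rfl⟩, ?_⟩
    rw [← eQ_pr, ← eQ_pr, ← e]
    simp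

end

section exist

open Cfsg.Agent.H686.VO.PSL

variable {F : Type} [Field F] [Fintype F]

theorem blkM_sub_one (k l : ℕ) (A : Matrix (Fin k) (Fin k) F) :
    blkM k l A 1 - 1 = blkM k l (A - 1) 0 := by
  rw [← blkM_one (F := F) k l, blkM, blkM, blkM, ← map_sub]
  congr 1
  rw [sub_eq_add_neg, Matrix.fromBlocks_neg, Matrix.fromBlocks_add]
  simp [sub_eq_add_neg]

/-- **Existence of good elements.** -/
theorem exists_good {p l : ℕ} (hp : p.Prime) (hl : 1 ≤ l) (h : p ∣ Fintype.card F - 1) :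
    ∃ s : Matrix.SpecialLinearGroup (Fin (2 + l)) F, Good p s ∧
      orderOf (Cfsg.Agent.ClassicalGeometry.AutPSL.Root.pr s) = p := by
  classical
  obtain ⟨x, hx⟩ := exists_diag h
  have hs : orderOf (i1 2 l F x) = p := by
    rw [orderOf_injective _ (i1_injective hl) x, hx]
  have hne : x ≠ 1 := by
    rintro rfl
    rw [orderOf_one] at hx
    exact hp.one_lt.ne hx
  refine ⟨up 2 l F x, ⟨?_, ?_, ?_, ?_⟩, hs⟩
  · rw [← map_pow, ← hx, pow_orderOf_eq_one, map_one]
  · intro h1
    exact hne (up_injective 2 l (by rw [h1, map_one]))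
  · have e1 : ((up 2 l F x : Matrix.SpecialLinearGroup (Fin (2 + l)) F) : Matrix (Fin (2 + l)) (Fin (2 + l)) F) =
        blkM 2 l (x : Matrix (Fin 2) (Fin 2) F) 1 := rfl
    have hne0 : Nonempty (Fin l) := ⟨⟨0, hl⟩⟩
    rw [e1, blkM_sub_one, det_blkM, Matrix.det_zero, mul_zero]
  · intro t ht
    refine ⟨blkM 2 l 1 (Matrix.diagonal fun i => if i = ⟨0, hl⟩ then t else 1), ?_, ?_⟩
    · rw [det_blkM, det_one, one_mul, det_diagonal, Finset.prod_ite_eq' ]
      simp
    · have e1 : ((up 2 l F x : Matrix.SpecialLinearGroup (Fin (2 + l)) F) : Matrix (Fin (2 + l)) (Fin (2 + l)) F) =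
          blkM 2 l (x : Matrix (Fin 2) (Fin 2) F) 1 := rfl
      rw [e1, ← blkM_mul, ← blkM_mul, one_mul, mul_one, mul_one, one_mul]

/-- **`PSL_n(q)`, `n ≥ 3`, `p ∣ q - 1`.** -/
theorem vOrdP_of_dvd {n r p : ℕ} [hr : Fact r.Prime] [CharP F r] (hn : 3 ≤ n) (hp : p.Prime)
    (h : p ∣ Fintype.card F - 1) : Cfsg.Agent.H620.PNorm.VOrdP p (ProjectiveSpecialLinearGroup (Fin n) F) := by
  obtain ⟨l, rfl⟩ := Nat.exists_eq_add_of_le (show 2 ≤ n by omega)
  have hpr : p ≠ r := by
    rintro rfl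
    obtain ⟨k, -, hk⟩ := FiniteField.card F p
    have h1 : p ∣ Fintype.card F := by rw [hk]; exact dvd_pow_self p k.ne_zero
    have h2 := (Nat.dvd_sub h1 h)
    have h3 : Fintype.card F - (Fintype.card F - 1) = 1 := by
      have := Fintype.card_pos (α := F)
      omega
    rw [h3] at h2
    exact hp.one_lt.ne' (Nat.dvd_one.1 h2)
  obtain ⟨s, hs, ho⟩ := exists_good (F := F) hp (show 1 ≤ l by omega) h
  exact ⟨_, ho, vz_good (r := r) (by omega) hp hpr hs⟩

end exist

end Cfsg.Agent.H872.PV
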